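import Cfsg.Agent.H12.EP.Own
import Cfsg.Agent.H12.EP.GalTwo
import Cfsg.Agent.S0280
import Cfsg.Agent.S0815
import Cfsg.Agent.S0283
import Cfsg.Agent.KFacts.RgdFiltClass

/-!
# S3499 own characteristic count: socle `PSU_d(2)` (helper303, task 6288)

* `psu_four` : `|Q| ≤ |A| ^ 4` for `4 ≤ d ≤ 7`;
* `psu_big` : `10 |Q| ≤ |A| ^ (4 + j)` for `8 ≤ d`, `1 ≤ j`, `|A| < 60 ^ 60 ^ j`;
* `psu_five`, `psu_pow` : `|Q| ≤ |A| ^ 5` for `8 ≤ d ≤ 18`, `|Q| ≤ |A| ^ d` for `8 ≤ d`.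
-/

set_option autoImplicit false
set_option linter.unusedSectionVars false

namespace Cfsg.Agent.H303.EPC

open Subgroup Cfsg Cfsg.Agent.H284 Cfsg.Agent.H59.EP Cfsg.Agent.H419.EP Cfsg.Agent.H12.EP.BT
  Cfsg.Agent.KFacts.RgdFilt Cfsg.Agent.KFacts.RgdFiltClass

/-! ### numbers -/

/-- `∏_{i=1}^d (2 ^ i - (-1) ^ i)` -/
def ufam (d : ℕ) : ℕ := ∏ i ∈ Finset.range d, (if Even i then 2 ^ (i + 1) + 1 else 2 ^ (i + 1) - 1)

theorem ufam_succ (d : ℕ) : ufam (d + 1) = ufam d * (if Even d then 2 ^ (d + 1) + 1 else 2 ^ (d + 1) - 1) :=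
  Finset.prod_range_succ _ _

theorem ufam_dvd_fam (d : ℕ) : ufam d ∣ fam 4 d := by
  induction d with
  | zero => exact dvd_rfl
  | succ d ih =>
    rw [ufam_succ]
    show _ ∣ fam 4 d * (4 ^ (d + 1) - 1)
    refine mul_dvd_mul ih ?_
    have h1 : (4 : ℕ) ^ (d + 1) - 1 = (2 ^ (d + 1) + 1) * (2 ^ (d + 1) - 1) := by
      have h2 : (4 : ℕ) ^ (d + 1) = 2 ^ (d + 1) * 2 ^ (d + 1) := by
        rw [← mul_pow]
        norm_num
      have h3 : 1 ≤ 2 ^ (d + 1) := Nat.one_le_pow _ _ (by norm_num)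
      rw [h2]
      obtain ⟨t, ht⟩ : ∃ t, 2 ^ (d + 1) = t + 1 := ⟨2 ^ (d + 1) - 1, by omega⟩
      rw [ht, Nat.add_sub_cancel]
      have : (t + 1) * (t + 1) = (t + 1 + 1) * t + 1 := by ring
      omega
    rw [h1]
    split_ifs
    · exact Dvd.intro _ rfl
    · exact Dvd.intro_left _ rfl

theorem two_pow_le_ufam_even (k : ℕ) : 2 ^ (2 * k * (2 * k + 1) / 2) ≤ ufam (2 * k) := by
  induction k with
  | zero => simp [ufam]
  | succ k ih =>
    have e : 2 * (k + 1) = 2 * k + 1 + 1 := by ring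
    rw [e, ufam_succ, ufam_succ, if_pos (even_two_mul k), if_neg (by
      rw [Nat.not_even_iff_odd]; exact ⟨k, rfl⟩)]
    have e1 : (2 * k + 1 + 1) * (2 * k + 1 + 1 + 1) / 2 = 2 * k * (2 * k + 1) / 2 + (4 * k + 3) := by
      have : (2 * k + 1 + 1) * (2 * k + 1 + 1 + 1) = 2 * k * (2 * k + 1) + 2 * (4 * k + 3) := by ring
      rw [this, Nat.add_mul_div_left _ _ (by norm_num)]
    rw [e1, pow_add, mul_assoc (ufam (2 * k))]
    refine Nat.mul_le_mul ih ?_
    set t := 2 ^ (2 * k) with ht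
    have ht1 : 1 ≤ t := Nat.one_le_pow _ _ (by norm_num)
    have a1 : 2 ^ (2 * k + 1) = 2 * t := by rw [pow_succ, ht]; ring
    have a2 : 2 ^ (2 * k + 1 + 1) = 4 * t := by rw [pow_succ, a1]; ring
    have a3 : 2 ^ (4 * k + 3) = 8 * (t * t) := by
      rw [ht, ← pow_add, show 4 * k + 3 = (2 * k + 2 * k) + 3 by ring, pow_add]; ring
    rw [a1, a2, a3]
    clear_value t
    obtain ⟨s, rfl⟩ : ∃ s, t = s + 1 := ⟨t - 1, by omega⟩
    have : 4 * (s + 1) - 1 = 4 * s + 3 := by omega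
    rw [this]
    nlinarith

theorem two_pow_le_ufam (d : ℕ) : 2 ^ (d * (d + 1) / 2) ≤ ufam d := by
  rcases Nat.even_or_odd' d with ⟨k, rfl | rfl⟩
  · exact two_pow_le_ufam_even k
  · rw [ufam_succ, if_pos (even_two_mul k)]
    have e1 : (2 * k + 1) * (2 * k + 1 + 1) / 2 = 2 * k * (2 * k + 1) / 2 + (2 * k + 1) := by
      have : (2 * k + 1) * (2 * k + 1 + 1) = 2 * k * (2 * k + 1) + 2 * (2 * k + 1) := by ring
      rw [this, Nat.add_mul_div_left _ _ (by norm_num)]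
    rw [e1, pow_add]
    exact Nat.mul_le_mul (two_pow_le_ufam_even k) (Nat.le_succ _)

theorem ufam_pos (d : ℕ) : 0 < ufam d := lt_of_lt_of_le (by positivity) (two_pow_le_ufam d)

section

variable {K : Type*} [Field K] [Fintype K] {d : ℕ}

/-- the order of `PSU_d(2)` -/
theorem card_psu (hK : Fintype.card K = 4) (hd : 2 ≤ d) :
    3 * (Nat.gcd d 3 * Nat.card (PSU d K 2)) = 2 ^ (d * (d - 1) / 2) * ufam d := by
  have h1 := S0280.result (F := K) (q := 2) (by rw [hK]; norm_num) d hd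
  rw [show 2 + 1 = 3 from rfl] at h1
  unfold ufam
  rw [← h1]
  ring

theorem card_aut (hK : Fintype.card K = 4) (hd : 4 ≤ d) :
    Nat.card (MulAut (PSU d K 2)) = 2 * (Nat.gcd d 3 * Nat.card (PSU d K 2)) := by
  have : Fact (Nat.Prime 2) := ⟨Nat.prime_two⟩
  rw [S0815.result (F := K) 2 1 le_rfl (q := 2) (by norm_num) (by rw [hK]; norm_num) d (by omega) (by omega)]
  ring

/-- `2 ^ (d ^ 2 - 4) ≤ |PSU_d(2)|` -/
theorem card_ge (hK : Fintype.card K = 4) (hd : 2 ≤ d) : 2 ^ (d * d) ≤ 9 * Nat.card (PSU d K 2) := by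
  have h1 := card_psu (K := K) hK hd
  have h2 := two_pow_le_ufam d
  have h3 : Nat.gcd d 3 ≤ 3 := Nat.gcd_le_right d (by norm_num)
  have e : d * (d - 1) / 2 + d * (d + 1) / 2 = d * d := by
    obtain ⟨t, rfl⟩ : ∃ t, d = t + 1 := ⟨d - 1, by omega⟩
    have h4 : (t + 1) * (t + 1 - 1) / 2 * 2 = (t + 1) * (t + 1 - 1) :=
      Nat.div_mul_cancel (Nat.even_mul_pred_self _).two_dvd
    have h5 : (t + 1) * (t + 1 + 1) / 2 * 2 = (t + 1) * (t + 1 + 1) :=
      Nat.div_mul_cancel (Nat.even_mul_succ_self _).two_dvd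
    rw [Nat.add_sub_cancel] at h4 ⊢
    have h6 : (t + 1) * t + (t + 1) * (t + 1 + 1) = 2 * ((t + 1) * (t + 1)) := by ring
    omega
  calc 2 ^ (d * d) = 2 ^ (d * (d - 1) / 2) * 2 ^ (d * (d + 1) / 2) := by rw [← pow_add, e]
    _ ≤ 2 ^ (d * (d - 1) / 2) * ufam d := Nat.mul_le_mul_left _ h2
    _ = 3 * (Nat.gcd d 3 * Nat.card (PSU d K 2)) := h1.symm
    _ ≤ 3 * (3 * Nat.card (PSU d K 2)) := Nat.mul_le_mul_left _ (Nat.mul_le_mul_right _ h3)
    _ = _ := by ring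

end

/-! ### the count -/

variable {Q : Type} [Group Q] [Finite Q] {A : Subgroup Q} {Γ : Subgroup (MulAut Q)} {K : Type} [Field K] [Fintype K]
  {d : ℕ}

theorem hasSoc_dvd {L : Type*} [Group L] (hsoc : HasSoc A L) [Finite L] : Nat.card A ∣ Nat.card (MulAut L) := by
  obtain ⟨f, hf⟩ := hsoc.exists_hom
  rw [Nat.card_congr (MonoidHom.ofInjective hf).toEquiv]
  exact Subgroup.card_subgroup_dvd_card _

theorem two_part (hK : Fintype.card K = 4) (hd : 4 ≤ d) (hsoc : HasSoc A (PSU d K 2)) :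
    ¬ 2 ^ 2 * Nat.card (PSU d K 2) ∣ Nat.card A := by
  intro h
  have hfin : Finite (PSU d K 2) := Quotient.finite _
  have h1 := h.trans (hasSoc_dvd hsoc)
  rw [card_aut hK hd] at h1
  have hpos : 0 < Nat.card (PSU d K 2) := Nat.card_pos
  have h2 : 2 ^ 2 ∣ 2 * Nat.gcd d 3 := by
    rw [← mul_assoc] at h1
    exact Nat.dvd_of_mul_dvd_mul_right hpos h1
  have h3 : 2 ∣ Nat.gcd d 3 := Nat.dvd_of_mul_dvd_mul_left (by norm_num : 0 < 2) (by
    have : 2 ^ 2 = 2 * 2 := by norm_num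
    rwa [this] at h2)
  have h4 : 2 ∣ 3 := h3.trans (Nat.gcd_dvd_right d 3)
  revert h4; decide

theorem card_dvd (hK : Fintype.card K = 4) (hd : 4 ≤ d) (hsoc : HasSoc A (PSU d K 2)) :
    3 * Nat.card A ∣ 2 ^ (d * (d - 1) / 2 + 1) * ufam d := by
  have hfin : Finite (PSU d K 2) := Quotient.finite _
  have h1 := hasSoc_dvd hsoc
  rw [card_aut hK hd] at h1
  have h2 := mul_dvd_mul_left 3 h1
  have e : 3 * (2 * (Nat.gcd d 3 * Nat.card (PSU d K 2))) = 2 ^ (d * (d - 1) / 2 + 1) * ufam d := by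
    have h3 := card_psu (K := K) hK (d := d) (by omega)
    calc 3 * (2 * (Nat.gcd d 3 * Nat.card (PSU d K 2))) = 2 * (3 * (Nat.gcd d 3 * Nat.card (PSU d K 2))) := by ring
      _ = _ := by rw [h3, pow_succ]; ring
  rwa [e] at h2

theorem charTwo (hK : Fintype.card K = 4) : CharP K 2 := by
  have : Fact (Nat.Prime 2) := ⟨Nat.prime_two⟩
  exact charP_of_card_eq_prime_pow (f := 2) (by rw [hK]; norm_num)

theorem not_comm_psu {n q : ℕ} (h : IsSimpleGroup (PSU n K q)) : ¬ ∀ a b : PSU n K q, a * b = b * a := by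
  intro hc
  let _ : CommGroup (PSU n K q) :=
    { (inferInstance : Group (PSU n K q)) with mul_comm := hc }
  have hcyc : IsCyclic (PSU n K q) := IsSimpleGroup.isCyclic
  have h1 : ∀ a b : SU n K q, a * b = b * a := (MonoidHom.isMulCommutative_of_isCyclic_of_ker_le_center
    (QuotientGroup.mk' (Subgroup.center (SU n K q))) (by rw [QuotientGroup.ker_mk'])).is_comm.comm
  obtain ⟨x, hx⟩ := exists_ne (1 : PSU n K q)
  obtain ⟨a, rfl⟩ := QuotientGroup.mk_surjective x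
  exact hx ((QuotientGroup.eq_one_iff a).2 (Subgroup.mem_center_iff.2 fun b => h1 b a))

theorem psu_big (hs : IsSimpleGroup Q) (h : EPT A Γ) (hg : TwoGen.{0}) (hK : Fintype.card K = 4) (hd : 8 ≤ d)
    (hsoc : HasSoc A (PSU d K 2)) {j : ℕ} (hj0 : 1 ≤ j) (hj : Nat.card A < 60 ^ 60 ^ j) :
    10 * Nat.card Q ≤ Nat.card A ^ (4 + j) := by
  have : Fact (Nat.Prime 2) := ⟨Nat.prime_two⟩
  have hK2 : CharP K 2 := charTwo hK
  have hKq : Fintype.card K = 2 ^ 2 := by rw [hK]; norm_num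
  have hsim : IsSimpleGroup (PSU d K 2) := S0283.result hKq d (by omega) (by omega)
  have hdv : Nat.card A ∣ 2 ^ (d * (d - 1) / 2 + 1) * fam 4 d :=
    (Dvd.intro_left 3 rfl).trans ((card_dvd hK (by omega) hsoc).trans (mul_dvd_mul_left _ (ufam_dvd_fam d)))
  have hC := clsLe_gal (B := A) 2
  refine card_own_sq hs h hg hsoc hsim (not_comm_psu hsim) (hasFilt_PSU hKq (by omega)) (two_part hK (by omega) hsoc) hj0 hj hC ?_
  · have h1 := (galSumNe_le (fam_pos (by norm_num) d).ne' hdv).trans (galSum_fam_four (by omega))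
    refine h1.trans ?_
    have h2 : Nat.card (PSU d K 2) ≤ Nat.card A := by
      obtain ⟨N, h3, _, _, ⟨e⟩⟩ := hsoc
      rw [← Nat.card_congr e.toEquiv]
      exact Subgroup.card_le_of_le h3
    have h3 := card_ge (K := K) hK (d := d) (by omega)
    have h4 : 2 ^ (d * d) ≤ 16 * Nat.card A := by omega
    have h5 : 2 ^ (d * d - 4) ≤ Nat.card A := by
      have e : 2 ^ (d * d) = 16 * 2 ^ (d * d - 4) := by
        rw [show (16 : ℕ) = 2 ^ 4 by norm_num, ← pow_add]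
        congr 1
        have : 64 ≤ d * d := Nat.mul_le_mul hd hd
        omega
      rw [e] at h4
      omega
    calc 2 ^ (2 * d ^ 2 - d - 1) ≤ 2 ^ (2 * (d * d - 4)) := by
          apply Nat.pow_le_pow_right (by norm_num)
          rw [sq]
          have : 64 ≤ d * d := Nat.mul_le_mul hd hd
          omega
      _ = (2 ^ (d * d - 4)) ^ 2 := by rw [← pow_mul, mul_comm]
      _ ≤ _ := Nat.pow_le_pow_left h5 2

theorem ufam_le (d : ℕ) : ufam d ≤ 2 ^ (d * (d + 1) / 2 + d) := by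
  induction d with
  | zero => simp [ufam]
  | succ d ih =>
    rw [ufam_succ]
    have h1 : (if Even d then 2 ^ (d + 1) + 1 else 2 ^ (d + 1) - 1) ≤ 2 ^ (d + 2) := by
      have h3 : 1 ≤ 2 ^ (d + 1) := Nat.one_le_pow _ _ (by norm_num)
      have h4 : 2 ^ (d + 2) = 2 * 2 ^ (d + 1) := by rw [pow_succ]; ring
      split_ifs <;> omega
    have e1 : (d + 1) * (d + 1 + 1) / 2 = d * (d + 1) / 2 + (d + 1) := by
      have : (d + 1) * (d + 1 + 1) = d * (d + 1) + 2 * (d + 1) := by ring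
      rw [this, Nat.add_mul_div_left _ _ (by norm_num)]
    have e2 : (d + 1) * (d + 1 + 1) / 2 + (d + 1) = (d * (d + 1) / 2 + d) + (d + 2) := by omega
    rw [e2, pow_add 2 (d * (d + 1) / 2 + d) (d + 2)]
    exact Nat.mul_le_mul ih h1

/-- `|A| ≤ 2 ^ (d ^ 2 + d)` -/
theorem card_le_pow (hK : Fintype.card K = 4) (hd : 4 ≤ d) (hsoc : HasSoc A (PSU d K 2)) :
    Nat.card A ≤ 2 ^ (d * d + d) := by
  have h1 := Nat.le_of_dvd (Nat.mul_pos (by positivity) (ufam_pos d)) (card_dvd hK hd hsoc)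
  have e : d * (d - 1) / 2 + d * (d + 1) / 2 = d * d := by
    obtain ⟨t, rfl⟩ : ∃ t, d = t + 1 := ⟨d - 1, by omega⟩
    have h4 : (t + 1) * (t + 1 - 1) / 2 * 2 = (t + 1) * (t + 1 - 1) :=
      Nat.div_mul_cancel (Nat.even_mul_pred_self _).two_dvd
    have h5 : (t + 1) * (t + 1 + 1) / 2 * 2 = (t + 1) * (t + 1 + 1) :=
      Nat.div_mul_cancel (Nat.even_mul_succ_self _).two_dvd
    rw [Nat.add_sub_cancel] at h4 ⊢
    have h6 : (t + 1) * t + (t + 1) * (t + 1 + 1) = 2 * ((t + 1) * (t + 1)) := by ring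
    omega
  have h2 : 2 ^ (d * (d - 1) / 2 + 1) * ufam d ≤ 2 * 2 ^ (d * d + d) := by
    calc 2 ^ (d * (d - 1) / 2 + 1) * ufam d ≤ 2 ^ (d * (d - 1) / 2 + 1) * 2 ^ (d * (d + 1) / 2 + d) :=
          Nat.mul_le_mul_left _ (ufam_le d)
      _ = 2 ^ (d * d + d + 1) := by
          rw [← pow_add]
          congr 1
          omega
      _ = _ := by rw [pow_succ]; ring
  omega

theorem sixty_pow {j T : ℕ} (h : T ≤ 5 * 60 ^ j) : 2 ^ T < 60 ^ 60 ^ j := by
  calc 2 ^ T ≤ 2 ^ (5 * 60 ^ j) := Nat.pow_le_pow_right (by norm_num) h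
    _ = 32 ^ 60 ^ j := by rw [pow_mul]; norm_num
    _ < 60 ^ 60 ^ j := Nat.pow_lt_pow_left (by norm_num) (by positivity)

/-- `8 ≤ d ≤ 16` -/
theorem psu_five (hs : IsSimpleGroup Q) (h : EPT A Γ) (hg : TwoGen.{0}) (hK : Fintype.card K = 4) (hd : 8 ≤ d)
    (hd' : d ≤ 16) (hsoc : HasSoc A (PSU d K 2)) : Nat.card Q ≤ Nat.card A ^ 5 := by
  have h1 := psu_big hs h hg hK hd hsoc le_rfl ((card_le_pow hK (by omega) hsoc).trans_lt
    (sixty_pow (j := 1) (by nlinarith)))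
  have h2 : Nat.card A ^ (4 + 1) = Nat.card A ^ 5 := rfl
  omega

/-- `8 ≤ d` -/
theorem psu_pow (hs : IsSimpleGroup Q) (h : EPT A Γ) (hg : TwoGen.{0}) (hK : Fintype.card K = 4) (hd : 8 ≤ d)
    (hsoc : HasSoc A (PSU d K 2)) : Nat.card Q ≤ Nat.card A ^ d := by
  obtain ⟨t, rfl⟩ : ∃ t, d = t + 8 := ⟨d - 8, by omega⟩
  have h3 : ∀ t : ℕ, (t + 8) * (t + 8) + (t + 8) ≤ 5 * 60 ^ (t + 4) := by
    intro t
    induction t with
    | zero => norm_num
    | succ t ih =>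
      have : 5 * 60 ^ (t + 1 + 4) = 60 * (5 * 60 ^ (t + 4)) := by
        rw [show t + 1 + 4 = (t + 4) + 1 by ring, pow_succ]; ring
      rw [this]
      nlinarith
  have h1 := psu_big hs h hg hK hd hsoc (j := t + 4) (by omega) ((card_le_pow hK (by omega) hsoc).trans_lt
    (sixty_pow (h3 t)))
  have h2 : 4 + (t + 4) = t + 8 := by ring
  rw [h2] at h1
  omega

/-! ### small dimensions -/

theorem no_sq {n N a m : ℕ} (h : n ∣ 2 ^ N * (3 ^ a * m)) (hm : Squarefree m) (s : ℕ) (hs : s.Prime) (h5 : 5 ≤ s) :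
    ¬ s ^ 2 ∣ n := by
  intro h1
  have h2 := h1.trans h
  have c2 : Nat.Coprime (s ^ 2) (2 ^ N) :=
    Nat.Coprime.pow _ _ ((Nat.coprime_primes hs Nat.prime_two).2 (by omega))
  have c3 : Nat.Coprime (s ^ 2) (3 ^ a) :=
    Nat.Coprime.pow _ _ ((Nat.coprime_primes hs Nat.prime_three).2 (by omega))
  have h3 := c3.dvd_of_dvd_mul_left (c2.dvd_of_dvd_mul_left h2)
  rw [sq] at h3
  exact hs.one_lt.ne' (Nat.isUnit_iff.1 (hm s h3))

theorem psu_small (hs : IsSimpleGroup Q) (h : EPT A Γ) (hg : TwoGen.{0}) (hK : Fintype.card K = 4) (hd : 4 ≤ d)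
    (hsoc : HasSoc A (PSU d K 2)) {N a m : ℕ} (hu : 2 ^ (d * (d - 1) / 2 + 1) * ufam d = 3 * (2 ^ N * (3 ^ a * m)))
    (hm : Squarefree m) (hG : 9 * galSum (3 ^ a * m) ≤ 2 ^ (d * d)) : Nat.card Q ≤ Nat.card A ^ 4 := by
  have : Fact (Nat.Prime 2) := ⟨Nat.prime_two⟩
  have hK2 : CharP K 2 := charTwo hK
  have hKq : Fintype.card K = 2 ^ 2 := by rw [hK]; norm_num
  have hsim : IsSimpleGroup (PSU d K 2) := S0283.result hKq d (by omega) (by omega)
  have hdv : Nat.card A ∣ 2 ^ N * (3 ^ a * m) := by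
    have h1 := card_dvd hK hd hsoc
    rw [hu] at h1
    exact Nat.dvd_of_mul_dvd_mul_left (by norm_num) h1
  have hm0 : m ≠ 0 := hm.ne_zero
  have hC := clsLe_gal (B := A) 2
  have h1 := card_own_four hs h hg hsoc hsim (not_comm_psu hsim) (hasFilt_PSU hKq (by omega))
    (two_part hK (by omega) hsoc) (no_sq hdv hm) hC (by
      have h1 := galSumNe_le (mul_ne_zero (by positivity) hm0) hdv
      refine h1.trans ?_
      have h2 : Nat.card (PSU d K 2) ≤ Nat.card A := by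
        obtain ⟨N, h3, _, _, ⟨e⟩⟩ := hsoc
        rw [← Nat.card_congr e.toEquiv]
        exact Subgroup.card_le_of_le h3
      have h3 := card_ge (K := K) hK (d := d) (by omega)
      omega)
  omega

/-- `4 ≤ d ≤ 7` -/
theorem psu_four (hs : IsSimpleGroup Q) (h : EPT A Γ) (hg : TwoGen.{0}) (hK : Fintype.card K = 4) (hd : 4 ≤ d)
    (hd' : d ≤ 7) (hsoc : HasSoc A (PSU d K 2)) : Nat.card Q ≤ Nat.card A ^ 4 := by
  interval_cases d
  · refine psu_small hs h hg hK hd hsoc (N := 7) (a := 4) (m := 5) (by decide +kernel) (by decide +kernel) ?_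
    exact (Nat.mul_le_mul_left 9 (galSum_of_list (V := 1000) [(3, 4), (5, 1)] (by norm_num) (by decide)
      (by decide +kernel) (by decide +kernel))).trans (by norm_num)
  · refine psu_small hs h hg hK hd hsoc (N := 11) (a := 5) (m := 55) (by decide +kernel) (by decide +kernel) ?_
    exact (Nat.mul_le_mul_left 9 (galSum_of_list (V := 10000) [(3, 5), (5, 1), (11, 1)] (by norm_num) (by decide)
      (by decide +kernel) (by decide +kernel))).trans (by norm_num)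
  · refine psu_small hs h hg hK hd hsoc (N := 16) (a := 7) (m := 385) (by decide +kernel) (by decide +kernel) ?_
    exact (Nat.mul_le_mul_left 9 (galSum_of_list (V := 10000000) [(3, 7), (5, 1), (7, 1), (11, 1)] (by norm_num)
      (by decide) (by decide +kernel) (by decide +kernel))).trans (by norm_num)
  · refine psu_small hs h hg hK hd hsoc (N := 22) (a := 8) (m := 16555) (by decide +kernel) (by decide +kernel) ?_
    exact (Nat.mul_le_mul_left 9 (galSum_of_list (V := 1000000000) [(3, 8), (5, 1), (7, 1), (11, 1), (43, 1)]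
      (by norm_num) (by decide) (by decide +kernel) (by decide +kernel))).trans (by norm_num)

/-- **the count for `PSU_d(2)`** in the shape of `Cfsg.Agent.H312.EPU.own_psu_gen` -/
theorem ub_psu_two (hs : IsSimpleGroup Q) (h : EPT A Γ) (hg : TwoGen.{0}) (hK : Fintype.card K = 4) (hd : 4 ≤ d)
    (hsoc : HasSoc A (PSU d K 2)) :
    ∃ c, (d ≤ 7 → c ≤ 4) ∧ (8 ≤ d → c ≤ 5 ∨ (12 ≤ d ∧ c ≤ d)) ∧ Nat.card Q ≤ Nat.card A ^ c := by
  rcases Nat.lt_or_ge 7 d with h7 | h7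
  · rcases Nat.lt_or_ge d 12 with h12 | h12
    · exact ⟨5, fun h => by omega, fun _ => Or.inl le_rfl, psu_five hs h hg hK h7 (by omega) hsoc⟩
    · exact ⟨d, fun h => by omega, fun _ => Or.inr ⟨h12, le_rfl⟩, psu_pow hs h hg hK h7 hsoc⟩
  · exact ⟨4, fun _ => le_rfl, fun h => by omega, psu_four hs h hg hK hd h7 hsoc⟩

end Cfsg.Agent.H303.EPC
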