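import Cfsg.Agent.H303.EPC.Psu
import Cfsg.Agent.H69.EP.PsuSmall
import Cfsg.Agent.H312.EPU.RowC

/-!
# S3499, own characteristic, `n ≥ 13`: the socle `PSU_d(2)` (helper303, task 6288)
-/

set_option autoImplicit false
set_option linter.unusedSectionVars false

namespace Cfsg.Agent.H303.EPC

open Subgroup Cfsg Cfsg.Agent.H59.EP Cfsg.Agent.H419.EP
open scoped MatrixGroups

variable {Q : Type} [Group Q] [Finite Q] {A : Subgroup Q} {Γ : Subgroup (MulAut Q)} {ι : Type} [Fintype ι]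
    [DecidableEq ι] {F : Type} [Field F] [Fintype F] {S P : Subgroup (GL ι F)}

/-- **the socle `PSU_d(2)`, `d ≥ 4`, own characteristic, `n ≥ 13`** -/
theorem own_psu_two (b : Big A Γ S P) (hg : TwoGen.{0}) (K : Type) [Field K] [Fintype K] (d : ℕ)
    (hK : Fintype.card K = 4) (hd : 4 ≤ d) (hc : ringChar F = ringChar K)
    (hS : Nonempty (socle P ≃* PSU d K 2)) : False := by
  obtain ⟨e⟩ := hS
  have hK2 : Fintype.card K = 2 ^ 2 := by rw [hK]; norm_num
  obtain ⟨c, h7, h8, hUB⟩ := ub_psu_two b.simple b.ept hg hK hd (b.hasSoc' e)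
  rcases Nat.lt_or_ge d 6 with h | h
  · exact Cfsg.Agent.H69.EP.own_psu_small b (psu_four b.simple b.ept hg hK hd (by omega) (b.hasSoc' e)) K d 2 hK2
      (by omega) (by omega) (by omega) hc ⟨e⟩
  · exact Cfsg.Agent.H312.EPU.own_psu_gen b hUB K d 2 hK2 h hc h7 h8 ⟨e⟩

end Cfsg.Agent.H303.EPC
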